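import Cfsg.Agent.H540.ClassNum

/-!
# Counting classes outside a normal subgroup

* `coset_cent_le`: `∑ a ∈ N, |C_N(x a)| ≤ k(N) |N|`;
* `le_add`: `k(G) ≤ k(B) + τ (k(G/B) - 1)` if every nontrivial coset of `B` has "at most `τ` classes";
* `coset_le`: a bound for the number of classes in a coset by means of a homomorphism.
-/

set_option autoImplicit false

namespace Cfsg.Agent.H266.KGV.Cnt

open Cfsg.Agent.H540.ClassNum

/-- `∑ a ∈ N, |C_N(x a)| ≤ k(N) |N|` for every element `x`. -/
theorem coset_cent_le {X : Type*} [Group X] [Finite X] (N : Subgroup X) [Fintype N] (x : X) :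
    ∑ a : N, cent (x * a) N ≤ Nat.card (ConjClasses N) * Nat.card N := by
  classical
  have := Fintype.ofFinite X
  rw [card_conjClasses_subgroup_mul_card]
  have h1 : ∑ a : N, cent (x * a) N = ∑ n : N, Nat.card {a : N // Commute (n : X) (x * a)} := by
    have h2 : Nat.card (Σ a : N, {y : X // y ∈ N ∧ Commute (x * (a : X)) y}) =
        Nat.card (Σ n : N, {a : N // Commute (n : X) (x * a)}) := by
      apply Nat.card_congr
      exact
        { toFun := fun p => ⟨⟨p.2.1, p.2.2.1⟩, ⟨p.1, p.2.2.2.symm⟩⟩
          invFun := fun p => ⟨p.2.1, ⟨p.1.1, p.1.2, p.2.2.symm⟩⟩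
          left_inv := fun p => rfl
          right_inv := fun p => rfl }
    rw [Nat.card_sigma, Nat.card_sigma] at h2
    exact h2
  rw [h1]
  refine Finset.sum_le_sum fun n _ => ?_
  rcases isEmpty_or_nonempty {a : N // Commute (n : X) (x * a)} with he | ⟨⟨a0, ha0⟩⟩
  · rw [Nat.card_of_isEmpty]; exact Nat.zero_le _
  · unfold cent
    refine Nat.card_le_card_of_injective (fun a => ⟨((a0 : X))⁻¹ * a.1, ?_, ?_⟩) ?_
    · exact N.mul_mem (N.inv_mem a0.2) a.1.2
    · have h3 : ((a0 : X))⁻¹ * (a.1 : X) = (x * a0)⁻¹ * (x * a.1) := by group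
      rw [h3]
      exact ha0.inv_right.mul_right a.2
    · intro a b hab
      have h4 := congrArg Subtype.val hab
      exact Subtype.ext (Subtype.ext (mul_left_cancel h4))

/-- **Classes outside a normal subgroup**: if `∑ b ∈ B, |C_B(x b)| ≤ τ |B|` for all `x ∉ B` then
`k(G) ≤ k(B) + τ (k(G/B) - 1)`. -/
theorem le_add {G : Type*} [Group G] [Finite G] (B : Subgroup G) [B.Normal] [Fintype B] (τ : ℕ)
    (h : ∀ x ∉ B, ∑ b : B, cent (x * b) B ≤ τ * Nat.card B) :
    Nat.card (ConjClasses G) ≤
      Nat.card (ConjClasses B) + τ * (Nat.card (ConjClasses (G ⧸ B)) - 1) := by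
  classical
  have := Fintype.ofFinite G
  have := Fintype.ofFinite (G ⧸ B)
  have hG : 0 < Nat.card G := Nat.card_pos
  -- coset sums
  have hS : ∀ x : G, ∑ y : {y : G // (QuotientGroup.mk y : G ⧸ B) = QuotientGroup.mk x},
      cent (y : G) B = ∑ b : B, cent (x * b) B := by
    intro x
    refine (Fintype.sum_equiv (Equiv.mk (fun b : B => (⟨x * b, by
        rw [QuotientGroup.eq]
        simp⟩ : {y : G // (QuotientGroup.mk y : G ⧸ B) = QuotientGroup.mk x}))
      (fun y => ⟨x⁻¹ * y.1, by
        rw [← QuotientGroup.eq, y.2]⟩)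
      (fun b => Subtype.ext (by simp)) (fun y => Subtype.ext (by simp)))
      (fun b : B => cent (x * b) B) _ (fun b => rfl)).symm
  have h1 : ∑ y : {y : G // (QuotientGroup.mk y : G ⧸ B) = 1}, cent (y : G) B ≤
      Nat.card (ConjClasses B) * Nat.card B := by
    have h2 := hS 1
    rw [QuotientGroup.mk_one] at h2
    rw [h2]
    exact coset_cent_le B 1
  have h2 : ∀ z : G ⧸ B, z ≠ 1 →
      ∑ y : {y : G // (QuotientGroup.mk y : G ⧸ B) = z}, cent (y : G) B ≤ τ * Nat.card B := by
    intro z
    refine QuotientGroup.induction_on z fun x hx => ?_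
    rw [hS x]
    exact h x fun hxB => hx ((QuotientGroup.eq_one_iff x).2 hxB)
  have hk : Nat.card (ConjClasses (G ⧸ B)) * Nat.card (G ⧸ B) =
      Nat.card (G ⧸ B) + ∑ z ∈ Finset.univ.erase (1 : G ⧸ B), cent z (⊤ : Subgroup (G ⧸ B)) := by
    rw [card_conjClasses_mul_card, ← Finset.add_sum_erase _ _ (Finset.mem_univ (1 : G ⧸ B))]
    congr 1
    unfold cent
    exact Nat.card_congr (Equiv.subtypeUnivEquiv fun y => ⟨trivial, Commute.one_left y⟩)
  have hpos : 1 ≤ Nat.card (ConjClasses (G ⧸ B)) := card_conjClasses_pos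
  refine Nat.le_of_mul_le_mul_right ?_ hG
  calc Nat.card (ConjClasses G) * Nat.card G = ∑ x : G, cent x (⊤ : Subgroup G) :=
        card_conjClasses_mul_card
    _ ≤ ∑ x : G, cent x B * cent (QuotientGroup.mk x : G ⧸ B) (⊤ : Subgroup (G ⧸ B)) :=
        Finset.sum_le_sum fun x _ => cent_top_le_quotient B x
    _ = ∑ z : G ⧸ B, (∑ y : {y : G // (QuotientGroup.mk y : G ⧸ B) = z}, cent (y : G) B) *
          cent z (⊤ : Subgroup (G ⧸ B)) := by
        rw [← Fintype.sum_fiberwise (fun x : G => (QuotientGroup.mk x : G ⧸ B))]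
        refine Finset.sum_congr rfl fun z _ => ?_
        rw [Finset.sum_mul]
        refine Finset.sum_congr rfl fun x _ => ?_
        rw [x.2]
    _ = (∑ y : {y : G // (QuotientGroup.mk y : G ⧸ B) = 1}, cent (y : G) B) *
          cent (1 : G ⧸ B) (⊤ : Subgroup (G ⧸ B)) +
        ∑ z ∈ Finset.univ.erase (1 : G ⧸ B),
          (∑ y : {y : G // (QuotientGroup.mk y : G ⧸ B) = z}, cent (y : G) B) *
          cent z (⊤ : Subgroup (G ⧸ B)) :=
        (Finset.add_sum_erase _ _ (Finset.mem_univ (1 : G ⧸ B))).symm
    _ ≤ (Nat.card (ConjClasses B) * Nat.card B) * Nat.card (G ⧸ B) +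
        ∑ z ∈ Finset.univ.erase (1 : G ⧸ B), (τ * Nat.card B) *
          cent z (⊤ : Subgroup (G ⧸ B)) := by
        refine Nat.add_le_add (Nat.mul_le_mul h1 ?_) ?_
        · unfold cent
          exact (Nat.card_congr (Equiv.subtypeUnivEquiv fun y => ⟨trivial, Commute.one_left y⟩)).le
        · refine Finset.sum_le_sum fun z hz => Nat.mul_le_mul_right _ (h2 z ?_)
          exact (Finset.mem_erase.1 hz).1
    _ = (Nat.card (ConjClasses B) + τ * (Nat.card (ConjClasses (G ⧸ B)) - 1)) * Nat.card G := by
        rw [← Finset.mul_sum]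
        have h3 : ∑ z ∈ Finset.univ.erase (1 : G ⧸ B), cent z (⊤ : Subgroup (G ⧸ B)) =
            (Nat.card (ConjClasses (G ⧸ B)) - 1) * Nat.card (G ⧸ B) := by
          rw [Nat.sub_mul, one_mul, hk, Nat.add_sub_cancel_left]
        rw [h3, Subgroup.card_eq_card_quotient_mul_card_subgroup B]
        ring

/-- the number of classes in a coset `x B`, by means of a homomorphism `F` defined on `B` and `x`. -/
theorem coset_le {G A : Type*} [Group G] [Finite G] [Group A] (B : Subgroup G) [Fintype B]
    (F : G →* A) (x : G) (σ : ℕ)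
    (h : ∀ b ∈ B, Nat.card {c : G // c ∈ B ∧ F c = 1 ∧ Commute (x * b) c} ≤ σ) :
    ∑ b : B, cent (x * b) B ≤ σ * Nat.card (ConjClasses (B.map F)) * Nat.card B := by
  classical
  have := Fintype.ofFinite G
  have hfin : Finite (B.map F) :=
    Finite.of_surjective (fun b : B => (⟨F b, b, b.2, rfl⟩ : B.map F)) (by
      rintro ⟨_, b, hb, rfl⟩
      exact ⟨⟨b, hb⟩, rfl⟩)
  have := Fintype.ofFinite (B.map F)
  -- pointwise
  have h1 : ∀ b : B, cent (x * b) B ≤ σ * Nat.card {a : B.map F // Commute (F x * F b) (a : A)} := by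
    intro b
    let f : {c : G // c ∈ B ∧ Commute (x * (b : G)) c} →
        {a : B.map F // Commute (F x * F b) (a : A)} :=
      fun c => ⟨⟨F c.1, c.1, c.2.1, rfl⟩, by
        have h2 := c.2.2.map F
        rwa [map_mul] at h2⟩
    have h3 : cent (x * b) B = ∑ a : {a : B.map F // Commute (F x * F b) (a : A)},
        Nat.card {c // f c = a} := by
      unfold cent
      rw [← Nat.card_sigma]
      exact Nat.card_congr (Equiv.sigmaFiberEquiv f).symm
    rw [h3]
    refine (Finset.sum_le_sum (g := fun _ => σ) fun a _ => ?_).trans ?_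
    · rcases isEmpty_or_nonempty {c // f c = a} with he | ⟨⟨c0, hc0⟩⟩
      · rw [Nat.card_of_isEmpty]; exact Nat.zero_le _
      · refine le_trans ?_ (h b b.2)
        refine Nat.card_le_card_of_injective (fun c => ⟨c0.1⁻¹ * c.1.1, ?_, ?_, ?_⟩) ?_
        · exact B.mul_mem (B.inv_mem c0.2.1) c.1.2.1
        · have h4 : F c.1.1 = F c0.1 := by
            have h5 := congrArg (fun z => ((z.1 : B.map F) : A)) (c.2.trans hc0.symm)
            exact h5
          rw [map_mul, map_inv, h4, inv_mul_cancel]
        · exact c0.2.2.inv_right.mul_right c.1.2.2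
        · intro c d hcd
          have h6 := congrArg Subtype.val hcd
          exact Subtype.ext (Subtype.ext (mul_left_cancel h6))
    · rw [Finset.sum_const, Finset.card_univ, ← Nat.card_eq_fintype_card, smul_eq_mul, mul_comm]
  -- summation over the fibres of `B → F(B)`
  let g : B → B.map F := fun b => ⟨F b, b, b.2, rfl⟩
  have h2 : ∀ a : B.map F, Nat.card {b : B // g b = a} * Nat.card (B.map F) = Nat.card B := by
    intro a
    obtain ⟨_, b0, hb0, rfl⟩ := a
    have e1 : Nat.card B = ∑ a : B.map F, Nat.card {b : B // g b = a} := by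
      rw [← Nat.card_sigma]
      exact Nat.card_congr (Equiv.sigmaFiberEquiv g).symm
    have e2 : ∀ a : B.map F, Nat.card {b : B // g b = a} = Nat.card {b : B // F b = 1} := by
      rintro ⟨_, b1, hb1, rfl⟩
      apply Nat.card_congr
      exact
        { toFun := fun b => ⟨⟨b1, hb1⟩⁻¹ * b.1, by
            have h5 : F b.1 = F b1 := congrArg Subtype.val b.2
            rw [Subgroup.coe_mul, Subgroup.coe_inv, map_mul, map_inv, h5, inv_mul_cancel]⟩
          invFun := fun b => ⟨⟨b1, hb1⟩ * b.1, by
            apply Subtype.ext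
            change F (b1 * b.1) = F b1
            rw [map_mul, b.2, mul_one]⟩
          left_inv := fun b => Subtype.ext (by simp)
          right_inv := fun b => Subtype.ext (by simp) }
    rw [e1, e2]
    rw [Finset.sum_congr rfl (fun a _ => e2 a), Finset.sum_const, Finset.card_univ,
      ← Nat.card_eq_fintype_card, smul_eq_mul, mul_comm]
  have h3 : ∀ a : B.map F, Nat.card {b : B // g b = a} = Nat.card B / Nat.card (B.map F) := by
    intro a
    rw [← h2 a, Nat.mul_div_cancel _ Nat.card_pos]
  calc ∑ b : B, cent (x * b) B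
      ≤ ∑ b : B, σ * Nat.card {a : B.map F // Commute (F x * F b) (a : A)} :=
        Finset.sum_le_sum fun b _ => h1 b
    _ = σ * ∑ b : B, Nat.card {a : B.map F // Commute (F x * (g b : A)) (a : A)} := by
        rw [Finset.mul_sum]
    _ = σ * ∑ a' : B.map F, ∑ b : {b : B // g b = a'},
          Nat.card {a : B.map F // Commute (F x * (a' : A)) (a : A)} := by
        congr 1
        rw [← Fintype.sum_fiberwise g]
        refine Finset.sum_congr rfl fun a' _ => Finset.sum_congr rfl fun b _ => ?_
        rw [b.2]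
    _ = σ * (Nat.card B / Nat.card (B.map F) *
          ∑ a' : B.map F, Nat.card {a : B.map F // Commute (F x * (a' : A)) (a : A)}) := by
        congr 1
        rw [Finset.mul_sum]
        refine Finset.sum_congr rfl fun a' _ => ?_
        rw [Finset.sum_const, Finset.card_univ, ← Nat.card_eq_fintype_card, smul_eq_mul, h3]
    _ ≤ σ * (Nat.card B / Nat.card (B.map F) *
          (Nat.card (ConjClasses (B.map F)) * Nat.card (B.map F))) := by
        refine Nat.mul_le_mul_left _ (Nat.mul_le_mul_left _ ?_)
        -- coset inequality in `A`, without finiteness of `A`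
        have h4 : ∑ a' : B.map F, Nat.card {a : B.map F // Commute (F x * (a' : A)) (a : A)} =
            ∑ n : B.map F, Nat.card {a' : B.map F // Commute (n : A) (F x * a')} := by
          have h5 : Nat.card (Σ a' : B.map F, {a : B.map F // Commute (F x * (a' : A)) (a : A)}) =
              Nat.card (Σ n : B.map F, {a' : B.map F // Commute (n : A) (F x * a')}) := by
            apply Nat.card_congr
            exact
              { toFun := fun p => ⟨p.2.1, ⟨p.1, p.2.2.symm⟩⟩
                invFun := fun p => ⟨p.2.1, ⟨p.1, p.2.2.symm⟩⟩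
                left_inv := fun p => rfl
                right_inv := fun p => rfl }
          rw [Nat.card_sigma, Nat.card_sigma] at h5
          exact h5
        rw [h4, card_conjClasses_mul_card]
        refine Finset.sum_le_sum fun n _ => ?_
        rcases isEmpty_or_nonempty {a' : B.map F // Commute (n : A) (F x * a')} with he | ⟨⟨a0, ha0⟩⟩
        · rw [Nat.card_of_isEmpty]; exact Nat.zero_le _
        · unfold cent
          refine Nat.card_le_card_of_injective (fun a => ⟨a0⁻¹ * a.1, trivial, ?_⟩) ?_
          · apply Subtype.ext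
            have h6 : Commute (n : A) ((F x * a0)⁻¹ * (F x * a.1)) :=
              ha0.inv_right.mul_right a.2
            have h7 : (F x * (a0 : A))⁻¹ * (F x * (a.1 : A)) = ((a0⁻¹ * a.1 : B.map F) : A) := by
              push_cast
              group
            rw [h7] at h6
            exact h6
          · intro a b hab
            have h8 := congrArg Subtype.val hab
            exact Subtype.ext (mul_left_cancel h8)
    _ = σ * Nat.card (ConjClasses (B.map F)) * Nat.card B := by
        have h9 : Nat.card (B.map F) ∣ Nat.card B := ⟨_, (by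
          have := h2 1
          rw [mul_comm] at this
          exact this.symm)⟩
        have h10 : Nat.card B / Nat.card (B.map F) * Nat.card (B.map F) = Nat.card B :=
          Nat.div_mul_cancel h9
        calc σ * (Nat.card B / Nat.card (B.map F) *
              (Nat.card (ConjClasses (B.map F)) * Nat.card (B.map F)))
            = σ * Nat.card (ConjClasses (B.map F)) *
              (Nat.card B / Nat.card (B.map F) * Nat.card (B.map F)) := by ring
          _ = _ := by rw [h10]

/-- the same with `F` defined on a subgroup `G'` containing `B` and `x` -/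
theorem coset_le' {G A : Type*} [Group G] [Finite G] [Group A] (B : Subgroup G) [Fintype B]
    (G' : Subgroup G) (hB : B ≤ G') (F : G' →* A) (x : G) (hx : x ∈ G') (σ : ℕ)
    (h : ∀ b ∈ B, Nat.card {c : G // ∃ hc : c ∈ B, F ⟨c, hB hc⟩ = 1 ∧
      Commute (x * b) c} ≤ σ) :
    ∑ b : B, cent (x * b) B ≤
      σ * Nat.card (ConjClasses ((B.subgroupOf G').map F)) * Nat.card B := by
  classical
  have := Fintype.ofFinite (B.subgroupOf G')
  have h1 := coset_le (B.subgroupOf G') F ⟨x, hx⟩ σ (by
    rintro ⟨b, hbG⟩ hb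
    refine le_trans ?_ (h b hb)
    refine Nat.card_le_card_of_injective (fun c => ⟨c.1.1, c.2.1, c.2.2.1, ?_⟩) ?_
    · exact congrArg Subtype.val c.2.2.2
    · intro c d hcd
      have h2 := congrArg Subtype.val hcd
      exact Subtype.ext (Subtype.ext h2))
  have hcard : Nat.card (B.subgroupOf G') = Nat.card B :=
    Nat.card_congr (Subgroup.subgroupOfEquivOfLe hB).toEquiv
  rw [hcard] at h1
  refine le_of_eq_of_le ?_ h1
  symm
  refine Fintype.sum_equiv (Subgroup.subgroupOfEquivOfLe hB).toEquiv _ _ fun b => ?_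
  unfold cent
  apply Nat.card_congr
  exact
    { toFun := fun c => ⟨c.1.1, c.2.1, congrArg Subtype.val c.2.2⟩
      invFun := fun c => ⟨⟨c.1, hB c.2.1⟩, c.2.1, Subtype.ext c.2.2⟩
      left_inv := fun c => rfl
      right_inv := fun c => rfl }

end Cfsg.Agent.H266.KGV.Cnt
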