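import Cfsg.Agent.H644.KGV.Goals
import Cfsg.Agent.H674.Codegree
import Cfsg.Agent.H687.Induce
import Cfsg.Agent.Lib.NormalAbelian
import Cfsg.Agent.CharDeep.CliffordCorr
import Cfsg.Agent.Characters.Elementary
import Cfsg.Agent.Characters.Clifford
import Cfsg.Agent.CharactersDeep.PiPart
import Cfsg.Agent.Characters.GaloisIrr
import Cfsg.Agent.Characters.CCBasic
import Cfsg.Agent.H706.AvgClifford
import Cfsg.Agent.CharactersDeep.Extraspecial
import Cfsg.Agent.CharactersDeep.CliffordSum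
import Cfsg.Agent.CharactersDeep.NormalInd
import Cfsg.Agent.Characters.Linear
import Cfsg.Agent.Blocks.Fong
import Cfsg.Agent.H480.Reduce

/-!
# TEAM KGV, task DICH: the invariant irreducible characters of an elementary group (helper266)
-/

set_option autoImplicit false
set_option linter.style.haveILetI false

namespace Cfsg.Agent.H266.KGV

open Subgroup Cfsg Cfsg.Agent.Characters.Core Cfsg.Agent.Characters.Clifford Cfsg.Agent.H644.KGV
open scoped ComplexConjugate

universe u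

/-! ## The power map -/

section power

variable {G : Type*} [Group G]

theorem pow_bijective [Finite G] {m : ℕ} (hm : m.Coprime (Nat.card G)) :
    Function.Bijective (fun g : G => g ^ m) := by
  rw [← Finite.injective_iff_bijective]
  exact (powCoprime (Nat.Coprime.symm hm)).injective

/-- The power map does not change the inner product. -/
theorem classInner_pow [Fintype G] {m : ℕ} (hm : m.Coprime (Nat.card G)) (φ ψ : G → ℂ) :
    classInner (fun g => φ (g ^ m)) (fun g => ψ (g ^ m)) = classInner φ ψ := by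
  rw [classInner_def, classInner_def]
  congr 1
  exact Fintype.sum_bijective _ (pow_bijective hm) _ _ fun _ => rfl

end power

/-! ## Existence of intermediate constituents -/

section between

variable {G : Type*} [Group G] [Fintype G]

/-- A constituent of the restriction to `B ≤ N` lies under a constituent of the restriction to `N`. -/
theorem exists_between (N B : Subgroup G) [Fintype N] [Fintype B] (hBN : B ≤ N) {χ : G → ℂ}
    (hχ : IsCharacter G χ) {μ : B → ℂ} (h : classInner (fun n : B => χ n) μ ≠ 0) :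
    ∃ φ : N → ℂ, IsIrrCharacter N φ ∧ classInner (fun n : N => χ n) φ ≠ 0 ∧
      classInner (fun n : B => φ ⟨n, hBN n.2⟩) μ ≠ 0 := by
  classical
  haveI : Finite (IrrCharacter N) := finite_irr
  letI : Fintype (IrrCharacter N) := Fintype.ofFinite _
  obtain ⟨c, hc, hc'⟩ := Cfsg.Agent.CharDeep.CliffordCorr.exists_nat_coeffs (isCharacter_restrict N hχ)
  by_contra hcon
  push Not at hcon
  apply h
  have h1 : (fun n : B => χ n) = ∑ η : IrrCharacter N, (c η : ℂ) • (fun n : B => (η : N → ℂ) ⟨n, hBN n.2⟩) := by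
    funext n
    have := congrFun hc ⟨n, hBN n.2⟩
    simp only [Finset.sum_apply, Pi.smul_apply] at this ⊢
    exact this
  rw [h1, classInner_sum_left]
  refine Finset.sum_eq_zero fun η _ => ?_
  rw [classInner_smul_left]
  by_cases hη : (c η : ℂ) = 0
  · rw [hη, zero_mul]
  · rw [hcon η η.2 (by rw [hc']; exact hη), mul_zero]

end between

/-! ## The induced case -/

section induced

variable {E : Type*} [Group E] [Fintype E]

omit [Fintype E] in
/-- Conjugation by `g` does not change the inner product. -/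
theorem classInner_conj (B : Subgroup E) [hB : B.Normal] [Fintype B] (φ μ : B → ℂ) (g : E) :
    classInner (fun b : B => φ ⟨g * b * g⁻¹, hB.conj_mem b b.2 g⟩)
      (fun b : B => μ ⟨g * b * g⁻¹, hB.conj_mem b b.2 g⟩) = classInner φ μ :=
  classInner_comp_mulEquiv (MulAut.conjNormal g : MulAut B) φ μ

/-- Two constituents of the restriction of `φ ∈ Irr(N)` to `B ≤ N` are conjugate in `N`. -/
theorem exists_conj_between (N B : Subgroup E) [hB : B.Normal] [Fintype N] [Fintype B] (hBN : B ≤ N)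
    {φ : N → ℂ} (hφ : IsIrrCharacter N φ) {μ ν : B → ℂ} (hμ : IsIrrCharacter B μ) (hν : IsIrrCharacter B ν)
    (h1 : classInner (fun n : B => φ ⟨n, hBN n.2⟩) μ ≠ 0)
    (h2 : classInner (fun n : B => φ ⟨n, hBN n.2⟩) ν ≠ 0) :
    ∃ n ∈ N, ∀ b : B, ν b = μ ⟨n * b * n⁻¹, hB.conj_mem b b.2 n⟩ := by
  classical
  letI : Fintype (B.subgroupOf N) := Fintype.ofFinite _
  rw [← Cfsg.Agent.H706.AvgClifford.classInner_subgroupOf B N hBN] at h1 h2
  obtain ⟨g, hg⟩ := exists_conj_of_constituents (B.subgroupOf N) hφ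
    (Cfsg.Agent.H706.AvgClifford.isIrr_subgroupOf B N hBN hμ)
    (Cfsg.Agent.H706.AvgClifford.isIrr_subgroupOf B N hBN hν) h1 h2
  refine ⟨g, g.2, fun b => ?_⟩
  exact congrFun hg ⟨⟨b, hBN b.2⟩, mem_subgroupOf.2 b.2⟩

theorem isIrr_hom {B : Type*} [Group B] (μ : B →* ℂˣ) : IsIrrCharacter B (fun b => (μ b : ℂ)) :=
  Cfsg.Agent.Characters.Linear.isIrrCharacter_hom μ

theorem induced (N B : Subgroup E) [hN : N.Normal] [hB : B.Normal] [Fintype N] [Fintype B] (hBN : B ≤ N)
    {χ : E → ℂ} (hχ : IsIrrCharacter E χ) {q : ℕ} (hq : q.Coprime (Nat.card E)) (hχq : ∀ h, χ (h ^ q) = χ h)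
    (μ : B →* ℂˣ) (hμ : classInner (fun n : B => χ n) (fun n => (μ n : ℂ)) ≠ 0)
    (hT' : ∀ g : E, (∀ b : B, μ ⟨g * b * g⁻¹, hB.conj_mem b b.2 g⟩ = μ b) → g ∈ N)
    (hT : ∀ g : E, (∀ b : B, μ ⟨g * b * g⁻¹, hB.conj_mem b b.2 g⟩ = μ b ^ q) → g ∈ N) :
    ∃ φ : N → ℂ, IsIrrCharacter N φ ∧ (∀ n : N, φ (n ^ q) = φ n) ∧ χ = indFun N φ := by
  obtain ⟨φ, hφ, hφχ, hφμ⟩ := exists_between N B hBN (isIrr_isCharacter hχ) hμ
  have hqN : q.Coprime (Nat.card N) := hq.coprime_dvd_right (card_subgroup_dvd_card N)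
  have hqB : q.Coprime (Nat.card B) := hq.coprime_dvd_right (card_subgroup_dvd_card B)
  -- the stabiliser of `φ`
  have hst : ∀ g : E, g ∈ N ↔ ∀ n : N, φ ⟨g * n * g⁻¹, hN.conj_mem (n : E) n.2 g⟩ = φ n := by
    intro g
    constructor
    · intro hg n
      exact isIrr_isClassFunction hφ n ⟨g, hg⟩
    · intro hg
      have h1 : classInner (fun n : B => φ ⟨n, hBN n.2⟩)
          (fun b : B => (μ ⟨g * b * g⁻¹, hB.conj_mem b b.2 g⟩ : ℂ)) ≠ 0 := by
        have e := classInner_conj B (fun n : B => φ ⟨n, hBN n.2⟩) (fun n => (μ n : ℂ)) g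
        have e2 : (fun b : B => φ ⟨g * b * g⁻¹, hBN (hB.conj_mem b b.2 g)⟩) = fun n : B => φ ⟨n, hBN n.2⟩ :=
          funext fun b => hg ⟨b, hBN b.2⟩
        rw [← e] at hφμ
        rw [← e2]
        exact hφμ
      obtain ⟨n, hn, hn'⟩ := exists_conj_between N B hBN hφ (isIrr_hom μ)
        (isIrr_hom (μ.comp ((MulAut.conjNormal g : MulAut B) : B →* B))) hφμ h1
      have h2 : g * n⁻¹ ∈ N := by
        refine hT' _ fun b => ?_
        have h3 := hn' ⟨n⁻¹ * b * n⁻¹⁻¹, hB.conj_mem b b.2 n⁻¹⟩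
        have h4 : (⟨n * (n⁻¹ * (b : E) * n⁻¹⁻¹) * n⁻¹, hB.conj_mem _ (hB.conj_mem b b.2 n⁻¹) n⟩ : B) = b :=
          Subtype.ext (by simp [mul_assoc])
        have h5 : (MulAut.conjNormal g : MulAut B) ⟨n⁻¹ * b * n⁻¹⁻¹, hB.conj_mem b b.2 n⁻¹⟩ =
            ⟨g * n⁻¹ * b * (g * n⁻¹)⁻¹, hB.conj_mem b b.2 (g * n⁻¹)⟩ :=
          Subtype.ext (by simp [mul_assoc])
        rw [h4] at h3
        have h6 : ((μ.comp ((MulAut.conjNormal g : MulAut B) : B →* B))
            ⟨n⁻¹ * b * n⁻¹⁻¹, hB.conj_mem b b.2 n⁻¹⟩ : ℂˣ) = μ b := Units.ext h3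
        rw [← h6, ← h5]
        rfl
      have := mul_mem h2 hn
      rwa [inv_mul_cancel_right] at this
  -- induced
  obtain ⟨ψ, hψ, hind, hψφ⟩ := Cfsg.Agent.CharDeep.CliffordCorr.clifford_correspondence N φ hφ N hst le_rfl χ hχ hφχ
  have hψe : ψ = φ := by
    by_contra hne
    have h1 : classInner ψ φ = 0 := classInner_irr_ne hψ hφ hne
    exact hφχ (hψφ ▸ h1)
  subst hψe
  refine ⟨ψ, hφ, ?_, hind.symm⟩
  -- invariance
  have hψq : IsIrrCharacter N (fun n : N => ψ (n ^ q)) := Cfsg.Agent.Characters.GaloisIrr.isIrr_pow hqN hφ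
  have h1 : classInner (fun n : N => χ n) (fun n : N => ψ (n ^ q)) ≠ 0 := by
    have e := classInner_pow hqN (fun n : N => χ n) ψ
    have e2 : (fun n : N => χ ((n ^ q : N) : E)) = fun n : N => χ n := funext fun n => by
      rw [SubmonoidClass.coe_pow]; exact hχq n
    rw [e2] at e
    rw [e]
    exact hφχ
  obtain ⟨g, hg⟩ := exists_conj_of_constituents N hχ hφ hψq hφχ h1
  have h2 : classInner (fun b : B => ψ ⟨g * b * g⁻¹, hBN (hB.conj_mem b b.2 g)⟩)
      (fun b : B => (μ ⟨g * b * g⁻¹, hB.conj_mem b b.2 g⟩ : ℂ)) ≠ 0 := by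
    rw [classInner_conj B (fun n : B => ψ ⟨n, hBN n.2⟩) (fun n => (μ n : ℂ)) g]
    exact hφμ
  have e3 : (fun b : B => ψ ⟨g * b * g⁻¹, hBN (hB.conj_mem b b.2 g)⟩) =
      fun b : B => (fun n : N => ψ (n ^ q)) ⟨b, hBN b.2⟩ := funext fun b => (congrFun hg ⟨b, hBN b.2⟩).symm
  rw [e3] at h2
  have h3 : classInner (fun b : B => (fun n : N => ψ (n ^ q)) ⟨b, hBN b.2⟩) (fun b : B => ((μ ^ q) b : ℂ)) ≠ 0 := by
    have e := classInner_pow hqB (fun b : B => ψ ⟨b, hBN b.2⟩) (fun b : B => (μ b : ℂ))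
    have e4 : (fun b : B => ((μ ^ q) b : ℂ)) = fun b : B => (μ (b ^ q) : ℂ) := funext fun b => by
      rw [map_pow]; simp
    rw [e4]
    rw [← e] at hφμ
    exact hφμ
  obtain ⟨n, hn, hn'⟩ := exists_conj_between N B hBN hψq
    (isIrr_hom (μ.comp ((MulAut.conjNormal g : MulAut B) : B →* B))) (isIrr_hom (μ ^ q)) h2 h3
  have h4 : g * n ∈ N := by
    refine hT _ fun b => ?_
    have h5 := hn' b
    have h6 : (MulAut.conjNormal g : MulAut B) ⟨n * b * n⁻¹, hB.conj_mem b b.2 n⟩ =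
        ⟨g * n * b * (g * n)⁻¹, hB.conj_mem b b.2 (g * n)⟩ := Subtype.ext (by simp [mul_assoc])
    have h7 : ((μ ^ q) b : ℂˣ) = μ ((MulAut.conjNormal g : MulAut B) ⟨n * b * n⁻¹, hB.conj_mem b b.2 n⟩) :=
      Units.ext h5
    rw [h6] at h7
    rw [← h7]
    simp
  have h8 : g ∈ N := by
    have := mul_mem h4 (inv_mem hn)
    rwa [mul_inv_cancel_right] at this
  intro m
  have h9 := congrFun hg m
  have h10 := isIrr_isClassFunction hφ m ⟨g, h8⟩
  exact h9.trans h10

end induced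

/-! ## Elementary groups -/

section elementary

variable {E : Type*} [Group E]

/-- The elements `g` for which `μ^g` is a power `μ^(q^i)`. -/
def powStab [Finite E] (B : Subgroup E) [hB : B.Normal] (μ : B →* ℂˣ) (q : ℕ) : Subgroup E where
  carrier := {g | ∃ i : ℕ, ∀ b : B, μ ⟨g * b * g⁻¹, hB.conj_mem b b.2 g⟩ = μ b ^ q ^ i}
  one_mem' := ⟨0, fun b => by simp⟩
  mul_mem' := by
    rintro g h ⟨i, hi⟩ ⟨j, hj⟩
    refine ⟨i + j, fun b => ?_⟩
    have h1 : (⟨g * h * b * (g * h)⁻¹, hB.conj_mem b b.2 (g * h)⟩ : B) =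
        ⟨g * (⟨h * b * h⁻¹, hB.conj_mem b b.2 h⟩ : B) * g⁻¹, hB.conj_mem _ (hB.conj_mem b b.2 h) g⟩ :=
      Subtype.ext (by simp [mul_assoc])
    rw [h1, hi, hj, ← pow_mul, pow_add, mul_comm (q ^ j)]
  inv_mem' := by
    rintro g ⟨i, hi⟩
    have key : ∀ n : ℕ, ∀ b : B, μ ⟨g ^ n * b * (g ^ n)⁻¹, hB.conj_mem b b.2 (g ^ n)⟩ = μ b ^ q ^ (i * n) := by
      intro n
      induction n with
      | zero => intro b; simp
      | succ n ih =>
        intro b
        have h1 : (⟨g ^ (n + 1) * b * (g ^ (n + 1))⁻¹, hB.conj_mem b b.2 (g ^ (n + 1))⟩ : B) =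
            ⟨g * (⟨g ^ n * b * (g ^ n)⁻¹, hB.conj_mem b b.2 (g ^ n)⟩ : B) * g⁻¹,
              hB.conj_mem _ (hB.conj_mem b b.2 (g ^ n)) g⟩ :=
          Subtype.ext (by simp [mul_assoc, pow_succ'])
        rw [h1, hi, ih, ← pow_mul, ← pow_add, Nat.mul_succ]
    have h2 : g⁻¹ = g ^ (orderOf g - 1) := by
      rw [inv_eq_iff_mul_eq_one, ← pow_succ', Nat.sub_add_cancel (orderOf_pos g), pow_orderOf_eq_one]
    exact ⟨i * (orderOf g - 1), by
      intro b
      have := key (orderOf g - 1) b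
      simp only [← h2] at this
      exact this⟩

theorem mem_powStab [Finite E] {B : Subgroup E} [hB : B.Normal] {μ : B →* ℂˣ} {q : ℕ} {g : E} :
    g ∈ powStab B μ q ↔ ∃ i : ℕ, ∀ b : B, μ ⟨g * b * g⁻¹, hB.conj_mem b b.2 g⟩ = μ b ^ q ^ i := Iff.rfl

/-- A proper subgroup containing the centre of an elementary group lies in a normal subgroup of index `ℓ`. -/
theorem exists_normal_over [Finite E] {ℓ : ℕ} (hℓ : ℓ.Prime) (hE : IsElementary ℓ E) (T : Subgroup E)
    (hT : T ≠ ⊤) (hc : center E ≤ T) : ∃ N : Subgroup E, N.Normal ∧ N.index = ℓ ∧ T ≤ N := by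
  haveI := Cfsg.Agent.Characters.Elementary.isNilpotent_of_isElementary hℓ hE
  obtain ⟨x, hx, -, k, hk⟩ := hE
  obtain ⟨N, hN, hTN⟩ := (eq_top_or_exists_le_coatom T).resolve_left hT
  have hNn : N.Normal := (Group.normalizerCondition_of_isNilpotent (G := E)).normal_of_coatom N hN
  refine ⟨N, hNn, ?_, hTN⟩
  have h1 : N.index ∣ ℓ ^ k := by
    rw [← hk]
    exact index_dvd_of_le ((zpowers_le.2 hx).trans (hc.trans hTN))
  have h2 := Cfsg.Agent.H480.index_prime_of_coatom hN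
  exact (Nat.prime_dvd_prime_iff_eq h2 hℓ).1 (h2.dvd_of_dvd_pow h1)

theorem dvd_sub_one [Finite E] {ℓ : ℕ} (hℓ : ℓ.Prime) (hE : IsElementary ℓ E) {χ : E → ℂ}
    (hχ : IsIrrCharacter E χ) (hf : ∀ g, χ g = χ 1 → g = 1) {q : ℕ} (hq1 : 1 ≤ q)
    (hχq : ∀ h, χ (h ^ q) = χ h) (hne : χ 1 ≠ 1) : ℓ ∣ q - 1 := by
  haveI := Cfsg.Agent.Characters.Elementary.isNilpotent_of_isElementary hℓ hE
  haveI : Fact ℓ.Prime := ⟨hℓ⟩
  obtain ⟨x, hx, -, k, hk⟩ := hE
  have hdvd : ℓ ∣ Nat.card E := by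
    rcases Nat.eq_zero_or_pos k with rfl | hk0
    · exfalso
      rw [pow_zero, index_eq_one] at hk
      have hcomm : ∀ a b : E, a * b = b * a := by
        intro a b
        have ha : a ∈ center E := zpowers_le.2 hx (by rw [hk]; trivial)
        exact (mem_center_iff.1 ha b).symm
      obtain ⟨f, rfl⟩ := Cfsg.Agent.Characters.CCBasic.exists_hom_of_comm hcomm hχ
      simp at hne
    · refine (dvd_pow_self ℓ hk0.ne').trans ?_
      rw [← hk]
      exact index_dvd_card _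
  obtain ⟨P⟩ : Nonempty (Sylow ℓ E) := inferInstance
  have hP : (P : Subgroup E) ≠ ⊥ := by
    intro h
    have h1 := P.card_eq_multiplicity
    rw [h, card_bot] at h1
    have h2 := (hℓ.dvd_iff_one_le_factorization Nat.card_pos.ne').1 hdvd
    have h3 : 1 < ℓ ^ (Nat.card E).factorization ℓ := Nat.one_lt_pow (by omega) hℓ.one_lt
    omega
  have hPn : (P : Subgroup E).Normal := inferInstance
  have h4 := Cfsg.Agent.Lib.NormalAbelian.normal_inf_center_ne_bot (P : Subgroup E) hP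
  have h5 : IsPGroup ℓ ((P : Subgroup E) ⊓ center E : Subgroup E) := P.2.to_le inf_le_left
  haveI : Nontrivial ((P : Subgroup E) ⊓ center E : Subgroup E) := (nontrivial_iff_ne_bot _).2 h4
  obtain ⟨n, hn, hn'⟩ := h5.nontrivial_iff_card.1 inferInstance
  obtain ⟨z, hz⟩ := exists_prime_orderOf_dvd_card' (G := ((P : Subgroup E) ⊓ center E : Subgroup E)) ℓ
    (by rw [hn']; exact dvd_pow_self ℓ hn.ne')
  have hzc : (z : E) ∈ center E := (mem_inf.1 z.2).2
  have hzo : orderOf (z : E) = ℓ := (orderOf_coe z).trans hz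
  obtain ⟨c, hc, -⟩ := Cfsg.Agent.CharactersDeep.Extraspecial.exists_central_hom hχ
  set w : center E := ⟨z, hzc⟩ with hw
  have hw1 : ∀ m : ℕ, χ ((z : E) ^ m) = χ 1 * (c w : ℂ) ^ m := by
    intro m
    have := hc 1 (w ^ m)
    rw [one_mul, map_pow] at this
    simpa using this
  have hχ1 := isIrr_apply_one_ne_zero hχ
  have h6 : (c w) ^ (q - 1) = 1 := by
    have e := hχq (z : E)
    rw [hw1] at e
    have e1 := hw1 1
    rw [pow_one, pow_one] at e1
    rw [e1] at e
    have e2 : (c w : ℂ) ^ q = c w := mul_left_cancel₀ hχ1 e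
    have e3 : (c w) ^ q = c w := by
      apply Units.ext
      rw [Units.val_pow_eq_pow_val]
      exact e2
    have e4 : c w ^ (q - 1) * c w = 1 * c w := by
      rw [← pow_succ, Nat.sub_add_cancel hq1, e3, one_mul]
    exact mul_right_cancel e4
  have h7 : orderOf (c w) = ℓ := by
    refine orderOf_eq_prime ?_ ?_
    · rw [← map_pow]
      have : w ^ ℓ = 1 := Subtype.ext (by
        rw [SubmonoidClass.coe_pow]
        exact orderOf_dvd_iff_pow_eq_one.1 hzo.dvd)
      rw [this, map_one]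
    · intro h8
      have h9 : (z : E) = 1 := hf _ (by
        have := hw1 1
        rwa [pow_one, h8, Units.val_one, one_pow, mul_one] at this)
      rw [h9, orderOf_one] at hzo
      exact hℓ.ne_one hzo.symm
  rw [← h7]
  exact orderOf_dvd_of_pow_eq_one h6

theorem dich_faithful [Fintype E] {ℓ : ℕ} (hℓ : ℓ.Prime) (hE : IsElementary ℓ E) {q : ℕ} (hq1 : 1 ≤ q)
    (hq : q.Coprime (Nat.card E)) {χ : E → ℂ} (hχ : IsIrrCharacter E χ) (hf : ∀ g, χ g = χ 1 → g = 1)
    (hχq : ∀ h, χ (h ^ q) = χ h) :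
    (∃ (N : Subgroup E) (φ : N → ℂ), N.Normal ∧ N.index = ℓ ∧ ℓ ∣ q - 1 ∧ IsCharacter N φ ∧
      (∀ n : N, φ (n ^ q) = φ n) ∧ χ = indFun N φ) ∨
    (∃ (A : Subgroup E) (t : E) (k : ℕ) (lam : A →* ℂˣ), A.Normal ∧ A.index = ℓ ^ k ∧
      (A.index ≠ 1 → ℓ ∣ q - 1) ∧ A ⊔ Subgroup.zpowers t = ⊤ ∧
      (∀ (a b : A), (b : E) = t * a * t⁻¹ → lam b = lam a ^ q) ∧
      χ = indFun A (fun x => (lam x : ℂ))) := by
  classical
  haveI := Cfsg.Agent.Characters.Elementary.isNilpotent_of_isElementary hℓ hE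
  by_cases h : ∃ (B : Subgroup E) (_ : B.Normal) (μ : B →* ℂˣ),
      (letI := Fintype.ofFinite B; classInner (fun n : B => χ n) (fun n => (μ n : ℂ)) ≠ 0) ∧ powStab B μ q ≠ ⊤
  · left
    obtain ⟨B, hB, μ, hμ, hne⟩ := h
    letI : Fintype B := Fintype.ofFinite B
    have hc : center E ≤ powStab B μ q := by
      intro g hg
      refine ⟨0, fun b => ?_⟩
      have h1 : (⟨g * b * g⁻¹, hB.conj_mem b b.2 g⟩ : B) = b := Subtype.ext (by
        change g * b * g⁻¹ = b
        rw [← mem_center_iff.1 hg b, mul_inv_cancel_right])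
      rw [h1, pow_zero, pow_one]
    have hBP : B ≤ powStab B μ q := by
      intro g hg
      refine ⟨0, fun b => ?_⟩
      have h1 : (⟨g * b * g⁻¹, hB.conj_mem b b.2 g⟩ : B) = ⟨g, hg⟩ * b * ⟨g, hg⟩⁻¹ := rfl
      rw [h1, map_mul, map_mul, map_inv, pow_zero, pow_one, mul_inv_cancel_comm]
    obtain ⟨N, hN, hNi, hPN⟩ := exists_normal_over hℓ hE _ hne hc
    letI : Fintype N := Fintype.ofFinite N
    obtain ⟨φ, hφ, hφq, hφi⟩ := induced N B (hBP.trans hPN) hχ hq hχq μ hμ
      (fun g hg => hPN ⟨0, fun b => by rw [hg b, pow_zero, pow_one]⟩)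
      (fun g hg => hPN ⟨1, fun b => by rw [hg b, pow_one]⟩)
    refine ⟨N, φ, hN, hNi, ?_, isIrr_isCharacter hφ, hφq, hφi⟩
    refine dvd_sub_one hℓ hE hχ hf hq1 hχq ?_
    obtain ⟨d, hd, hd'⟩ := isIrr_apply_one hφ
    rw [hφi, Cfsg.Agent.CharactersDeep.NormalInd.indFun_one, hNi, hd']
    have h2 : ℓ * d ≠ 1 := fun h3 => hℓ.ne_one (Nat.eq_one_of_mul_eq_one_right h3)
    exact_mod_cast h2
  · right
    push Not at h
    obtain ⟨A, hA, hAc, hAA⟩ :=
      Cfsg.Agent.Lib.NormalAbelian.exists_normal_abelian_selfCentralizing (G := E)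
    letI : Fintype A := Fintype.ofFinite A
    have hcomm : ∀ a b : A, a * b = b * a := fun a b => hAc.is_comm.comm a b
    obtain ⟨⟨θ, hθ⟩, hθχ⟩ := Cfsg.Agent.Blocks.Fong.exists_constituent (N := A) (⟨χ, hχ⟩ : IrrCharacter E)
    obtain ⟨lam, rfl⟩ := Cfsg.Agent.Characters.CCBasic.exists_hom_of_comm hcomm hθ
    have hlam : classInner (fun n : A => χ n) (fun n => (lam n : ℂ)) ≠ 0 := hθχ
    have hall : ∀ g : E, ∃ i : ℕ, ∀ b : A, lam ⟨g * b * g⁻¹, hA.conj_mem b b.2 g⟩ = lam b ^ q ^ i := by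
      intro g
      have h1 := h A hA lam hlam
      have h2 : g ∈ powStab A lam q := by rw [h1]; trivial
      exact h2
    -- `lam` is faithful
    have hinj : ∀ a : A, lam a = 1 → a = 1 := by
      intro a ha
      have h1 := Cfsg.Agent.CharactersDeep.CliffordSum.restrict_eq_smul_sum A hχ hθ hlam
      have h2 : ∀ ψ ∈ Finset.univ.image (fun x : E => (fun a : A => (lam a : ℂ)) ∘ (MulAut.conjNormal x : MulAut A)),
          ψ a = ψ 1 := by
        intro ψ hψ
        obtain ⟨x, -, rfl⟩ := Finset.mem_image.1 hψ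
        obtain ⟨i, hi⟩ := hall x
        have h3 : (MulAut.conjNormal x : MulAut A) a = ⟨x * a * x⁻¹, hA.conj_mem a a.2 x⟩ := Subtype.ext (by simp)
        rw [Function.comp_apply, Function.comp_apply, h3, hi a, ha, one_pow, map_one, map_one]
      have h4 : χ (a : E) = χ 1 := by
        have e1 := congrFun h1 a
        have e2 := congrFun h1 1
        simp only [Pi.smul_apply, Finset.sum_apply] at e1 e2
        rw [Finset.sum_congr rfl h2] at e1
        rw [e1]
        exact e2.symm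
      exact Subtype.ext (hf _ h4)
    have hst : ∀ g : E, g ∈ A ↔ ∀ n : A, (lam ⟨g * n * g⁻¹, hA.conj_mem (n : E) n.2 g⟩ : ℂ) = lam n := by
      intro g
      constructor
      · intro hg n
        have h1 : (⟨g * n * g⁻¹, hA.conj_mem (n : E) n.2 g⟩ : A) = n := Subtype.ext (by
          have := congrArg Subtype.val (hcomm ⟨g, hg⟩ n)
          change g * n = n * g at this
          change g * n * g⁻¹ = n
          rw [this, mul_inv_cancel_right])
        rw [h1]
      · intro hg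
        rw [← hAA, mem_centralizer_iff]
        intro n hn
        have h1 : lam (⟨g * n * g⁻¹, hA.conj_mem n hn g⟩ * (⟨n, hn⟩ : A)⁻¹) = 1 := by
          rw [map_mul, map_inv, mul_inv_eq_one]
          exact Units.ext (hg ⟨n, hn⟩)
        have h2 := congrArg Subtype.val (hinj _ h1)
        change g * n * g⁻¹ * n⁻¹ = 1 at h2
        rw [mul_inv_eq_one, mul_inv_eq_iff_eq_mul] at h2
        exact h2.symm
    obtain ⟨ψ, hψ, hind, hψφ⟩ :=
      Cfsg.Agent.CharDeep.CliffordCorr.clifford_correspondence A _ hθ A hst le_rfl χ hχ hlam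
    have hψe : ψ = fun a : A => (lam a : ℂ) := by
      by_contra hne
      have h1 : classInner ψ (fun a : A => (lam a : ℂ)) = 0 := classInner_irr_ne hψ hθ hne
      exact hlam (hψφ ▸ h1)
    subst hψe
    have hqA : q.Coprime (Nat.card A) := hq.coprime_dvd_right (card_subgroup_dvd_card A)
    have h1 : classInner (fun n : A => χ n) (fun n : A => ((lam ^ q) n : ℂ)) ≠ 0 := by
      have e := classInner_pow hqA (fun n : A => χ n) (fun n => (lam n : ℂ))
      have e2 : (fun n : A => χ ((n ^ q : A) : E)) = fun n : A => χ n := funext fun n => by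
        rw [SubmonoidClass.coe_pow]; exact hχq n
      have e4 : (fun n : A => (lam (n ^ q) : ℂ)) = (fun n : A => ((lam ^ q) n : ℂ)) := funext fun b => by
        rw [map_pow]; simp
      rw [e2, e4] at e
      rw [e]
      exact hlam
    obtain ⟨t, ht⟩ := exists_conj_of_constituents A hχ hθ (isIrr_hom (lam ^ q)) hlam h1
    have ht' : ∀ a : A, lam ⟨t * a * t⁻¹, hA.conj_mem a a.2 t⟩ = lam a ^ q := by
      intro a
      have e := congrFun ht a
      have h3 : (MulAut.conjNormal t : MulAut A) a = ⟨t * a * t⁻¹, hA.conj_mem a a.2 t⟩ := Subtype.ext (by simp)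
      rw [Function.comp_apply, h3] at e
      refine Units.ext ?_
      rw [← e]
      simp
    have hE' := hE
    obtain ⟨x, hx, -, k, hk⟩ := hE'
    have hxA : zpowers x ≤ A := by
      rw [zpowers_le, ← hAA]
      exact center_le_centralizer _ hx
    obtain ⟨j, -, hj⟩ := (Nat.dvd_prime_pow hℓ).1 (hk ▸ index_dvd_of_le hxA : A.index ∣ ℓ ^ k)
    refine ⟨A, t, j, lam, hA, hj, ?_, ?_, ?_, hind.symm⟩
    · intro hne
      refine dvd_sub_one hℓ hE hχ hf hq1 hχq ?_
      rw [← hind, Cfsg.Agent.CharactersDeep.NormalInd.indFun_one]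
      simpa using hne
    · rw [eq_top_iff]
      intro g _
      obtain ⟨i, hi⟩ := hall g
      have htn : ∀ n : ℕ, ∀ b : A, lam ⟨t ^ n * b * (t ^ n)⁻¹, hA.conj_mem b b.2 (t ^ n)⟩ = lam b ^ q ^ n := by
        intro n
        induction n with
        | zero => intro b; simp
        | succ n ih =>
          intro b
          have h1 : (⟨t ^ (n + 1) * b * (t ^ (n + 1))⁻¹, hA.conj_mem b b.2 (t ^ (n + 1))⟩ : A) =
              ⟨t * (⟨t ^ n * b * (t ^ n)⁻¹, hA.conj_mem b b.2 (t ^ n)⟩ : A) * t⁻¹,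
                hA.conj_mem _ (hA.conj_mem b b.2 (t ^ n)) t⟩ :=
            Subtype.ext (by simp [mul_assoc, pow_succ'])
          rw [h1, ht', ih, ← pow_mul, ← pow_succ]
      have h2 : g * (t ^ i)⁻¹ ∈ A := by
        rw [hst]
        intro n
        have e1 := hi ⟨(t ^ i)⁻¹ * n * (t ^ i)⁻¹⁻¹, hA.conj_mem n n.2 (t ^ i)⁻¹⟩
        have e2 := htn i ⟨(t ^ i)⁻¹ * n * (t ^ i)⁻¹⁻¹, hA.conj_mem n n.2 (t ^ i)⁻¹⟩
        rw [← e1] at e2
        have e3 : (⟨t ^ i * ((t ^ i)⁻¹ * n * (t ^ i)⁻¹⁻¹) * (t ^ i)⁻¹,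
            hA.conj_mem _ (hA.conj_mem n n.2 (t ^ i)⁻¹) (t ^ i)⟩ : A) = n := Subtype.ext (by simp [mul_assoc])
        have e4 : (⟨g * ((t ^ i)⁻¹ * n * (t ^ i)⁻¹⁻¹) * g⁻¹,
            hA.conj_mem _ (hA.conj_mem n n.2 (t ^ i)⁻¹) g⟩ : A) =
            ⟨g * (t ^ i)⁻¹ * n * (g * (t ^ i)⁻¹)⁻¹, hA.conj_mem n n.2 (g * (t ^ i)⁻¹)⟩ :=
          Subtype.ext (by simp [mul_assoc])
        rw [← e4]
        change ((lam (⟨g * ((t ^ i)⁻¹ * n * (t ^ i)⁻¹⁻¹) * g⁻¹,
            hA.conj_mem _ (hA.conj_mem n n.2 (t ^ i)⁻¹) g⟩ : A) : ℂˣ) : ℂ) = _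
        have e5 : lam (⟨t ^ i * ((t ^ i)⁻¹ * n * (t ^ i)⁻¹⁻¹) * (t ^ i)⁻¹,
            hA.conj_mem _ (hA.conj_mem n n.2 (t ^ i)⁻¹) (t ^ i)⟩ : A) = lam n := congrArg lam e3
        rw [← e5]
        exact congrArg Units.val e2.symm
      have h3 : g = g * (t ^ i)⁻¹ * t ^ i := by rw [inv_mul_cancel_right]
      rw [h3]
      exact mul_mem (mem_sup_left h2) (mem_sup_right (pow_mem (mem_zpowers t) i))
    · intro a b hab
      rw [← ht' a]
      exact congrArg lam (Subtype.ext hab)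

end elementary

/-- **TEAM KGV, task DICH.** -/
theorem dichotomy : Dichotomy.{u} := by
  classical
  intro p hp E _ _ _ ℓ f hℓ hE hpE hf1 χ hχ hχq
  have hq : (p ^ f).Coprime (Nat.card E) := Nat.Coprime.pow_left f ((hp.out.coprime_iff_not_dvd).2 hpE)
  have hq1 : 1 ≤ p ^ f := Nat.one_le_iff_ne_zero.2 (pow_ne_zero _ hp.out.ne_zero)
  obtain ⟨K, hK, hKχ⟩ := Cfsg.Agent.H674.Codegree.exists_kernel (isIrr_isCharacter hχ)
  obtain ⟨⟨χ', hχ'⟩, hχe⟩ := Cfsg.Agent.H674.Codegree.exists_faithful hχ K hKχ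
  change χ = χ' ∘ QuotientGroup.mk at hχe
  letI : Fintype (E ⧸ K) := Fintype.ofFinite _
  have hsurj : Function.Surjective (QuotientGroup.mk' K) := QuotientGroup.mk'_surjective K
  have hE' := Cfsg.Agent.CharactersDeep.PiPart.isElementary_of_surjective hℓ hE (QuotientGroup.mk' K) hsurj
  have hq' : (p ^ f).Coprime (Nat.card (E ⧸ K)) := hq.coprime_dvd_right (card_quotient_dvd_card K)
  have hf' : ∀ g, χ' g = χ' 1 → g = 1 := by
    intro g' hg'
    obtain ⟨g, rfl⟩ := QuotientGroup.mk_surjective g'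
    have h1 : χ g = χ 1 := by rw [hχe]; exact hg'
    exact (QuotientGroup.eq_one_iff g).2 ((hKχ g).2 h1)
  have hχq' : ∀ h, χ' (h ^ (p ^ f)) = χ' h := by
    intro g'
    obtain ⟨g, rfl⟩ := QuotientGroup.mk_surjective g'
    have h1 := hχq g
    rw [hχe] at h1
    exact h1
  rcases dich_faithful hℓ hE' hq1 hq' hχ' hf' hχq' with
    ⟨N, φ, hN, hNi, hd, hφ, hφq, hφi⟩ | ⟨A, t', k, lam, hA, hAi, hd, hAt, hlam, hi⟩
  · left
    let π : N.comap (QuotientGroup.mk' K) →* N := (QuotientGroup.mk' K).subgroupComap N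
    refine ⟨N.comap (QuotientGroup.mk' K), φ ∘ π, hN.comap _, ?_, hd, isCharacter_comp π hφ, ?_, ?_⟩
    · rw [index_comap_of_surjective _ hsurj, hNi]
    · intro n
      rw [Function.comp_apply, Function.comp_apply, map_pow, hφq]
    · funext s
      have h1 := Cfsg.Agent.H687.indFun_comp (QuotientGroup.mk' K) N (fun x => by
        obtain ⟨y, rfl⟩ := hsurj x
        exact ⟨y, by rw [inv_mul_cancel]; exact one_mem _⟩) φ (fun a b => by
        have := isCharacter_isClassFunction hφ b a⁻¹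
        rwa [inv_inv] at this) s
      rw [hχe, Function.comp_apply, hφi]
      exact h1
  · right
    obtain ⟨t, rfl⟩ := QuotientGroup.mk_surjective t'
    let π : A.comap (QuotientGroup.mk' K) →* A := (QuotientGroup.mk' K).subgroupComap A
    refine ⟨A.comap (QuotientGroup.mk' K), t, k, lam.comp π, hA.comap _, ?_, ?_, ?_, ?_, ?_⟩
    · rw [index_comap_of_surjective _ hsurj, hAi]
    · rw [index_comap_of_surjective _ hsurj]
      exact hd
    · rw [eq_top_iff]
      intro g _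
      have h1 : (QuotientGroup.mk g : E ⧸ K) ∈ A ⊔ zpowers (QuotientGroup.mk t : E ⧸ K) := by
        rw [hAt]; trivial
      rw [mem_sup_of_normal_left] at h1
      obtain ⟨a, ha, y, hy, hay⟩ := h1
      obtain ⟨i, rfl⟩ := mem_zpowers_iff.1 hy
      have h2 : g * (t ^ i)⁻¹ ∈ A.comap (QuotientGroup.mk' K) := by
        rw [mem_comap]
        have h3 : QuotientGroup.mk' K (g * (t ^ i)⁻¹) = a := by
          rw [map_mul, map_inv, map_zpow, mul_inv_eq_iff_eq_mul]
          exact hay.symm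
        rw [h3]
        exact ha
      have h3 : g = g * (t ^ i)⁻¹ * t ^ i := by rw [inv_mul_cancel_right]
      rw [h3]
      exact mul_mem (mem_sup_left h2) (mem_sup_right (zpow_mem (mem_zpowers t) i))
    · intro a b hab
      refine hlam (π a) (π b) ?_
      change (QuotientGroup.mk' K) (b : E) = _
      rw [hab, map_mul, map_mul, map_inv]
      rfl
    · funext s
      have h1 := Cfsg.Agent.H687.indFun_comp (QuotientGroup.mk' K) A (fun x => by
        obtain ⟨y, rfl⟩ := hsurj x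
        exact ⟨y, by rw [inv_mul_cancel]; exact one_mem _⟩) (fun x => (lam x : ℂ)) (fun a b => by
        change ((lam (a⁻¹ * b * a) : ℂˣ) : ℂ) = lam b
        rw [map_mul, map_mul, map_inv, inv_mul_cancel_comm]) s
      rw [hχe, Function.comp_apply, hi]
      exact h1

end Cfsg.Agent.H266.KGV
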